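import Groth.Agent.Lib.JacCrit.Fiber
import Groth.Agent.Lib.JacCrit.Regular
import Groth.Agent.Lib.JacCrit.FlatRegular
import Groth.Agent.Lib.Regular.Quotient
import Mathlib.RingTheory.DedekindDomain.Dvr
import Mathlib.RingTheory.LocalRing.ResidueField.Ideal

/-!
# Regular flat algebras are smooth along sections over a Dedekind domain
-/

universe u

open IsLocalRing TensorProduct

namespace Groth.Agent.Lib.SectionSmooth

variable {R A : Type u} [CommRing R] [IsDedekindDomain R] [CommRing A] [Algebra R A]
  (p : Ideal R) [p.IsPrime] (σ : A →ₐ[R] Localization.AtPrime p)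

/-- The point of a section. -/
noncomputable abbrev point : Ideal A := (maximalIdeal (Localization.AtPrime p)).comap σ.toRingHom

theorem liesOver_point : (point p σ).LiesOver p := ⟨by
  ext r
  rw [Ideal.under_def, Ideal.mem_comap, Ideal.mem_comap,
    show σ.toRingHom (algebraMap R A r) = algebraMap R (Localization.AtPrime p) r from σ.commutes r,
    IsLocalization.AtPrime.to_map_mem_maximal_iff (Localization.AtPrime p) p]⟩

/-- The fibre of a regular algebra at the point of a section is regular. -/
theorem isRegularLocalRing_quotient [IsRegularLocalRing (Localization.AtPrime (point p σ))] :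
    IsRegularLocalRing (Localization.AtPrime (point p σ) ⧸
      p.map (algebraMap R (Localization.AtPrime (point p σ)))) := by
  let q := point p σ
  let Aq := Localization.AtPrime q
  by_cases hp : p = ⊥
  · exact IsRegularLocalRing.of_ringEquiv
      ((RingEquiv.quotientBot Aq).symm.trans (Ideal.quotEquivOfEq (by subst hp; rw [Ideal.map_bot])))
  have := IsLocalization.AtPrime.isDiscreteValuationRing_of_dedekind_domain R hp (Localization.AtPrime p)
  obtain ⟨π, hπ⟩ := IsDiscreteValuationRing.exists_irreducible (Localization.AtPrime p)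
  have := liesOver_point p σ
  let := Localization.AtPrime.algebraOfLiesOver p q
  let σq : Aq →+* Localization.AtPrime p := IsLocalization.lift (M := q.primeCompl) (g := σ.toRingHom)
    fun a => not_not.mp fun hu => a.2 ((mem_maximalIdeal _).mpr hu)
  have hσq : σq.comp (algebraMap (Localization.AtPrime p) Aq) = RingHom.id _ := by
    refine IsLocalization.ringHom_ext p.primeCompl (RingHom.ext fun r => ?_)
    simp only [RingHom.comp_apply, RingHom.id_apply]
    rw [← IsScalarTower.algebraMap_apply R (Localization.AtPrime p) Aq,
      IsScalarTower.algebraMap_apply R A Aq, IsLocalization.lift_eq]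
    exact σ.commutes r
  have hmax : Ideal.map σq (maximalIdeal Aq) ≤ maximalIdeal (Localization.AtPrime p) := by
    rw [show maximalIdeal Aq = q.map (algebraMap A Aq) from
      (Localization.AtPrime.map_eq_maximalIdeal).symm, Ideal.map_map, Ideal.map_le_iff_le_comap]
    intro a ha
    rw [Ideal.mem_comap, RingHom.comp_apply, IsLocalization.lift_eq]
    exact ha
  let x := algebraMap (Localization.AtPrime p) Aq π
  have hx : x ∈ maximalIdeal Aq := by
    rw [mem_maximalIdeal, mem_nonunits_iff]
    intro hu
    refine hπ.not_isUnit ?_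
    have := hu.map σq
    rwa [show σq x = π from congr($hσq π)] at this
  have hx2 : x ∉ maximalIdeal Aq ^ 2 := fun h => by
    have h2 : π ∈ maximalIdeal (Localization.AtPrime p) ^ 2 := by
      refine Ideal.pow_right_mono hmax 2 ?_
      rw [← Ideal.map_pow, show π = σq x from (congr($hσq π)).symm]
      exact Ideal.mem_map_of_mem σq h
    rw [hπ.maximalIdeal_eq, Ideal.span_singleton_pow, Ideal.mem_span_singleton] at h2
    obtain ⟨c, hc⟩ := h2
    refine hπ.not_isUnit (IsUnit.of_mul_eq_one c (mul_left_cancel₀ hπ.ne_zero ?_))
    rw [mul_one, ← mul_assoc, ← pow_two]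
    exact hc.symm
  have hmap : p.map (algebraMap R Aq) = Ideal.span {x} := by
    rw [IsScalarTower.algebraMap_eq R (Localization.AtPrime p) Aq, ← Ideal.map_map,
      Localization.AtPrime.map_eq_maximalIdeal]
    exact (congrArg (Ideal.map _) hπ.maximalIdeal_eq).trans
      (by rw [Ideal.map_span, Set.image_singleton])
  have := (Groth.Agent.Lib.Regular.Quotient.quotient_singleton hx hx2).1
  exact IsRegularLocalRing.of_ringEquiv (R := Aq ⧸ Ideal.span {x})
    (Ideal.quotEquivOfEq hmap.symm)

/-- The residue field at a rational point is formally smooth. -/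
theorem formallySmooth_residueField {K F : Type u} [Field K] [CommRing F] [Algebra K F]
    (τ : F →ₐ[K] K) (hτ : Function.Surjective τ) (qF : Ideal F) (h : qF = RingHom.ker τ)
    [qF.IsMaximal] : Algebra.FormallySmooth K qF.ResidueField := by
  subst h
  let e1 : K ≃ₐ[K] F ⧸ RingHom.ker τ := (Ideal.quotientKerAlgEquivOfSurjective (f := τ) hτ).symm
  let e2 : (F ⧸ RingHom.ker τ) ≃ₐ[K] (RingHom.ker τ).ResidueField :=
    AlgEquiv.ofBijective (IsScalarTower.toAlgHom K (F ⧸ RingHom.ker τ) (RingHom.ker τ).ResidueField)
      (RingHom.ker τ).bijective_algebraMap_quotient_residueField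
  exact Algebra.FormallySmooth.of_equiv (e1.trans e2)

/-- A regular rational point is smooth. -/
theorem isSmoothAt_rational {K F : Type u} [Field K] [CommRing F] [Algebra K F]
    [Algebra.FiniteType K F] (τ : F →ₐ[K] K) (hτ : Function.Surjective τ) (qF : Ideal F)
    (h : qF = RingHom.ker τ) [qF.IsMaximal] [IsRegularLocalRing (Localization.AtPrime qF)] :
    Algebra.IsSmoothAt K qF :=
  have := formallySmooth_residueField τ hτ qF h
  Groth.Agent.Lib.JacCrit.Regular.isSmoothAt K qF

/-- A regular flat algebra of finite presentation is smooth along a section. -/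
theorem isSmoothAt_point [Algebra.FinitePresentation R A] [Module.Flat R A]
    [IsRegularLocalRing (Localization.AtPrime (point p σ))] : Algebra.IsSmoothAt R (point p σ) := by
  let q := point p σ
  have := liesOver_point p σ
  let := Localization.AtPrime.algebraOfLiesOver p q
  have : Module.Flat R (Localization.AtPrime q) := Module.Flat.trans R A _
  have : Module.Flat (Localization.AtPrime p) (Localization.AtPrime q) :=
    (Module.flat_iff_of_isLocalization (Localization.AtPrime p) p.primeCompl _).mpr inferInstance
  let κ := p.ResidueField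
  let τ : p.Fiber A →ₐ[κ] κ :=
    Algebra.TensorProduct.lift (Algebra.ofId κ κ)
      ((IsScalarTower.toAlgHom R (Localization.AtPrime p) κ).comp σ) (fun _ _ => mul_comm _ _)
  let qF : Ideal (p.Fiber A) := RingHom.ker τ
  have hτ : Function.Surjective τ := fun c => ⟨algebraMap κ _ c, τ.commutes c⟩
  have : qF.IsMaximal := RingHom.ker_isMaximal_of_surjective τ hτ
  have hqF : qF.comap (Algebra.TensorProduct.includeRight (R := R) (A := κ)).toRingHom = q := by
    ext a
    change τ ((1 : κ) ⊗ₜ[R] a) = 0 ↔ a ∈ q
    rw [Algebra.TensorProduct.lift_tmul, map_one, one_mul]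
    exact IsLocalRing.residue_eq_zero_iff (σ a)
  obtain ⟨e⟩ := Groth.Agent.Lib.JacCrit.FlatRegular.nonempty_ringEquiv p q qF hqF
  have := isRegularLocalRing_quotient p σ
  have : IsRegularLocalRing (Localization.AtPrime qF) :=
    IsRegularLocalRing.of_ringEquiv (R := Localization.AtPrime q ⧸ p.map (algebraMap R (Localization.AtPrime q))) e.symm
  exact Groth.Agent.Lib.JacCrit.Fiber.isSmoothAt p q qF hqF
    (isSmoothAt_rational τ hτ qF rfl)

end Groth.Agent.Lib.SectionSmooth
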